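import Groth.Agent.MultTori.K441.Defs
import Mathlib.RingTheory.Localization.NumDen
import Mathlib.RingTheory.MvPolynomial.Localization
import Mathlib.RingTheory.UniqueFactorizationDomain.GCDMonoid
import Mathlib.Analysis.SpecialFunctions.Log.Basic

/-!
# The system of heights attached to a degree and a norm on a unique factorization domain

`heightSys_of_degNorm` (node RQ-A2 of `K441.Plan`).
-/

set_option autoImplicit false
set_option linter.unusedSectionVars false

universe u v

namespace K722.HtSys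

open Groth.Agent.MultTori.K441

/-! ## Degree and norm -/

section dn

variable {R : Type v} [CommRing R] [IsDomain R] (d : DegNorm R)

theorem deg_one : d.deg 1 = 0 := by
  have h := d.deg_mul 1 1 one_ne_zero one_ne_zero
  rw [one_mul] at h
  omega

theorem deg_unit {x : R} (hx : IsUnit x) : d.deg x = 0 := by
  obtain ⟨y, hy⟩ := hx.exists_right_inv
  have hx0 : x ≠ 0 := hx.ne_zero
  have hy0 : y ≠ 0 := by
    rintro rfl
    rw [mul_zero] at hy
    exact zero_ne_one hy
  have h := d.deg_mul x y hx0 hy0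
  rw [hy, deg_one] at h
  omega

theorem deg_zero : d.deg 0 = 0 := by
  have h := d.deg_add 1 (-1)
  rw [add_neg_cancel, deg_unit d isUnit_one, deg_unit d isUnit_one.neg] at h
  omega

theorem deg_mul_le (x y : R) : d.deg (x * y) ≤ d.deg x + d.deg y := by
  by_cases hx : x = 0
  · rw [hx, zero_mul, deg_zero]
    omega
  by_cases hy : y = 0
  · rw [hy, mul_zero, deg_zero]
    omega
  exact (d.deg_mul x y hx hy).le

theorem nm_nonneg (x : R) : 0 ≤ d.nm x := by
  by_cases hx : x = 0
  · rw [hx, d.nm_zero]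
  · exact zero_le_one.trans (d.one_le_nm x hx)

theorem C_pos : 0 < d.C := zero_lt_one.trans_le d.one_le

theorem nm_one_le : d.nm 1 ≤ d.C := by
  have h := d.nm_mul' 1 1 one_ne_zero one_ne_zero
  rw [one_mul, deg_one, zero_add, pow_one] at h
  have h1 : 0 < d.nm 1 := zero_lt_one.trans_le (d.one_le_nm 1 one_ne_zero)
  exact le_of_mul_le_mul_right h h1

theorem deg_sum_le {ι : Type*} (s : Finset ι) (f : ι → R) (B : ℕ) (h : ∀ i ∈ s, d.deg (f i) ≤ B) :
    d.deg (∑ i ∈ s, f i) ≤ B := by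
  classical
  induction s using Finset.induction_on with
  | empty => rw [Finset.sum_empty, deg_zero]; omega
  | insert j s hj ih =>
    rw [Finset.sum_insert hj]
    refine (d.deg_add _ _).trans (max_le (h j (Finset.mem_insert_self j s)) (ih fun i hi => ?_))
    exact h i (Finset.mem_insert_of_mem hi)

theorem nm_sum_le {ι : Type*} (s : Finset ι) (f : ι → R) : d.nm (∑ i ∈ s, f i) ≤ ∑ i ∈ s, d.nm (f i) := by
  classical
  induction s using Finset.induction_on with
  | empty => rw [Finset.sum_empty, Finset.sum_empty, d.nm_zero]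
  | insert j s hj ih =>
    rw [Finset.sum_insert hj, Finset.sum_insert hj]
    exact (d.nm_add _ _).trans (add_le_add_right ih _)

theorem deg_mul_pow_le (x y : R) (D k : ℕ) (hy : d.deg y ≤ D) : d.deg (x * y ^ k) ≤ d.deg x + k * D := by
  induction k with
  | zero => rw [pow_zero, mul_one]; omega
  | succ k ih =>
    rw [pow_succ, ← mul_assoc, Nat.succ_mul]
    exact (deg_mul_le d _ _).trans (by omega)

theorem nm_mul_pow_le (x y : R) (n : ℝ) (k : ℕ) (hy : d.nm y ≤ n) : d.nm (x * y ^ k) ≤ d.nm x * n ^ k := by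
  have hn : 0 ≤ n := (nm_nonneg d y).trans hy
  induction k with
  | zero => rw [pow_zero, mul_one, pow_zero, mul_one]
  | succ k ih =>
    rw [pow_succ, ← mul_assoc, pow_succ, ← mul_assoc]
    exact (d.nm_mul _ _).trans (mul_le_mul ih hy (nm_nonneg d y) (mul_nonneg (nm_nonneg d x) (pow_nonneg hn k)))

theorem deg_mul_prod_le {I : Type*} (s : Finset I) (P : I → R) (e : I → ℕ) (D : ℕ) (hP : ∀ i, d.deg (P i) ≤ D)
    (x : R) : d.deg (x * ∏ i ∈ s, P i ^ e i) ≤ d.deg x + (∑ i ∈ s, e i) * D := by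
  classical
  induction s using Finset.induction_on generalizing x with
  | empty => rw [Finset.prod_empty, mul_one]; omega
  | insert j s hj ih =>
    rw [Finset.prod_insert hj, Finset.sum_insert hj, ← mul_assoc, add_mul]
    have := deg_mul_pow_le d x (P j) D (e j) (hP j)
    exact (ih _).trans (by omega)

theorem nm_mul_prod_le {I : Type*} (s : Finset I) (P : I → R) (e : I → ℕ) (n : ℝ) (hn : 0 ≤ n)
    (hP : ∀ i, d.nm (P i) ≤ n) (x : R) : d.nm (x * ∏ i ∈ s, P i ^ e i) ≤ d.nm x * n ^ (∑ i ∈ s, e i) := by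
  classical
  induction s using Finset.induction_on generalizing x with
  | empty => rw [Finset.prod_empty, mul_one, Finset.sum_empty, pow_zero, mul_one]
  | insert j s hj ih =>
    rw [Finset.prod_insert hj, Finset.sum_insert hj, ← mul_assoc, pow_add, ← mul_assoc]
    exact (ih _).trans (mul_le_mul_of_nonneg_right (nm_mul_pow_le d x (P j) n (e j) (hP j)) (pow_nonneg hn _))

/-- Degree of the value of a form. -/
theorem exists_deg_eval_le {I : Type} (a : ℕ) (g : MvPolynomial I R) (hg : g.IsHomogeneous a) :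
    ∃ c : ℕ, ∀ (P : I → R) (D : ℕ), (∀ i, d.deg (P i) ≤ D) → d.deg (MvPolynomial.eval P g) ≤ c + a * D := by
  refine ⟨g.support.sup fun m => d.deg (g.coeff m), fun P D hP => ?_⟩
  rw [MvPolynomial.eval_eq]
  refine deg_sum_le d _ _ _ fun m hm => (deg_mul_prod_le d _ P m D hP _).trans ?_
  have h1 : ∑ i ∈ m.support, m i = a := by
    by_contra h
    exact (MvPolynomial.mem_support_iff.mp hm) (hg.coeff_eq_zero h)
  rw [h1]
  exact Nat.add_le_add_right (Finset.le_sup (f := fun m => d.deg (g.coeff m)) hm) _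

/-- Norm of the value of a form. -/
theorem exists_nm_eval_le {I : Type} (a : ℕ) (g : MvPolynomial I R) (hg : g.IsHomogeneous a) :
    ∃ c : ℝ, 0 ≤ c ∧ ∀ (P : I → R) (n : ℝ), 0 ≤ n → (∀ i, d.nm (P i) ≤ n) →
      d.nm (MvPolynomial.eval P g) ≤ c * n ^ a := by
  refine ⟨∑ m ∈ g.support, d.nm (g.coeff m), Finset.sum_nonneg fun m _ => nm_nonneg d _, fun P n hn hP => ?_⟩
  rw [MvPolynomial.eval_eq, Finset.sum_mul]
  refine (nm_sum_le d _ _).trans (Finset.sum_le_sum fun m hm => (nm_mul_prod_le d _ P m n hn hP _).trans ?_)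
  have h1 : ∑ i ∈ m.support, m i = a := by
    by_contra h
    exact (MvPolynomial.mem_support_iff.mp hm) (hg.coeff_eq_zero h)
  rw [h1]

theorem one_le_C_pow (k : ℕ) : 1 ≤ d.C ^ k := one_le_pow₀ d.one_le

/-- Norm of a power from below. -/
theorem nm_pow_le (x : R) (hx : x ≠ 0) (k : ℕ) :
    d.nm x ^ k ≤ d.C ^ (k * (k * d.deg x + 1)) * d.nm (x ^ k) := by
  have hdeg : ∀ k : ℕ, d.deg (x ^ k) = k * d.deg x := by
    intro k
    induction k with
    | zero => rw [pow_zero, deg_one, zero_mul]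
    | succ k ih => rw [pow_succ, d.deg_mul _ _ (pow_ne_zero k hx) hx, ih, Nat.succ_mul]
  induction k with
  | zero =>
    rw [pow_zero, pow_zero, zero_mul, pow_zero, one_mul]
    exact d.one_le_nm 1 one_ne_zero
  | succ k ih =>
    have h1 := d.nm_mul' (x ^ k) x (pow_ne_zero k hx) hx
    rw [← pow_succ] at h1
    calc d.nm x ^ (k + 1) = d.nm x ^ k * d.nm x := pow_succ _ _
      _ ≤ d.C ^ (k * (k * d.deg x + 1)) * d.nm (x ^ k) * d.nm x :=
          mul_le_mul_of_nonneg_right ih (nm_nonneg d x)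
      _ = d.C ^ (k * (k * d.deg x + 1)) * (d.nm (x ^ k) * d.nm x) := by ring
      _ ≤ d.C ^ (k * (k * d.deg x + 1)) * (d.C ^ (d.deg (x ^ (k + 1)) + 1) * d.nm (x ^ (k + 1))) :=
          mul_le_mul_of_nonneg_left h1 (pow_nonneg (C_pos d).le _)
      _ = d.C ^ (k * (k * d.deg x + 1) + (d.deg (x ^ (k + 1)) + 1)) * d.nm (x ^ (k + 1)) := by
          rw [pow_add]; ring
      _ ≤ d.C ^ ((k + 1) * ((k + 1) * d.deg x + 1)) * d.nm (x ^ (k + 1)) := by
          refine mul_le_mul_of_nonneg_right (pow_le_pow_right₀ d.one_le ?_) (nm_nonneg d _)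
          rw [hdeg]
          nlinarith [Nat.zero_le k, Nat.zero_le (d.deg x), Nat.zero_le (k * d.deg x)]

end dn

/-! ## Primitive representatives -/

section prim

variable {R : Type v} {K : Type u} [CommRing R] [IsDomain R] [UniqueFactorizationMonoid R] [Field K] [Algebra R K]
  [IsFractionRing R K]

/-- The entries have no common divisor. -/
def Prim {I : Type} (P : I → R) : Prop := ∀ t : R, (∀ i, t ∣ P i) → IsUnit t

/-- `P` is a primitive representative of the class of `v`. -/
def IsRep {I : Type} (v : I → K) (P : I → R) : Prop :=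
  Prim P ∧ ∃ c : K, c ≠ 0 ∧ ∀ i, c * v i = algebraMap R K (P i)

theorem isRep_smul {I : Type} {c : K} (hc : c ≠ 0) (v : I → K) : IsRep (R := R) (c • v) = IsRep v := by
  funext P
  refine propext ⟨?_, ?_⟩
  · rintro ⟨h1, a, ha, h2⟩
    exact ⟨h1, a * c, mul_ne_zero ha hc, fun i => by rw [← h2, mul_assoc]; rfl⟩
  · rintro ⟨h1, a, ha, h2⟩
    refine ⟨h1, a * c⁻¹, mul_ne_zero ha (inv_ne_zero hc), fun i => ?_⟩
    rw [← h2, Pi.smul_apply, smul_eq_mul, mul_assoc, inv_mul_cancel_left₀ hc]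

theorem exists_rep {I : Type} [Fintype I] (v : I → K) (hv : v ≠ 0) : ∃ P : I → R, IsRep v P := by
  classical
  let _ := UniqueFactorizationMonoid.strongNormalizationMonoid (α := R)
  let _ := UniqueFactorizationMonoid.toNormalizedGCDMonoid R
  obtain ⟨i₀, hi₀⟩ := Function.ne_iff.mp hv
  obtain ⟨⟨e, he⟩, hb⟩ := IsLocalization.exist_integer_multiples_of_finite (nonZeroDivisors R) v
  choose Q hQ using hb
  have he0 : algebraMap R K e ≠ 0 := IsFractionRing.to_map_ne_zero_of_mem_nonZeroDivisors he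
  have hQ' : ∀ i, algebraMap R K (Q i) = algebraMap R K e * v i := fun i => by rw [hQ, Algebra.smul_def]
  obtain ⟨P, hP, hP1⟩ := Finset.extract_gcd Q (s := Finset.univ) ⟨i₀, Finset.mem_univ _⟩
  have hg : Finset.univ.gcd Q ≠ 0 := by
    intro h
    have h1 : Q i₀ = 0 := by rw [hP i₀ (Finset.mem_univ _), h, zero_mul]
    have h2 := hQ' i₀
    rw [h1, map_zero] at h2
    exact (mul_ne_zero he0 hi₀) h2.symm
  have hg' : algebraMap R K (Finset.univ.gcd Q) ≠ 0 := by
    rwa [Ne, IsFractionRing.to_map_eq_zero_iff]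
  refine ⟨P, fun t ht => ?_, algebraMap R K e / algebraMap R K (Finset.univ.gcd Q), div_ne_zero he0 hg', fun i => ?_⟩
  · exact isUnit_of_dvd_one (hP1 ▸ Finset.dvd_gcd fun i _ => ht i)
  · rw [div_mul_eq_mul_div, ← hQ', hP i (Finset.mem_univ _), map_mul, mul_div_cancel_left₀ _ hg']

/-- The chosen primitive representative. -/
noncomputable def rep (R : Type v) {K : Type u} [CommRing R] [Field K] [Algebra R K] {I : Type} (v : I → K) : I → R :=
  Classical.epsilon (IsRep v)

theorem rep_smul {I : Type} {c : K} (hc : c ≠ 0) (v : I → K) : rep R (c • v) = rep R v := by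
  rw [rep, rep, isRep_smul hc]

theorem isRep_rep {I : Type} [Fintype I] {v : I → K} (hv : v ≠ 0) : IsRep v (rep R v) :=
  Classical.epsilon_spec (exists_rep v hv)

/-- An integral vector is an integral multiple of a primitive one. -/
theorem exists_mul {I : Type} {v : I → K} {P : I → R} (h : IsRep v P) {Q : I → R} {a : K} (ha : a ≠ 0)
    (hQ : ∀ i, a * v i = algebraMap R K (Q i)) : ∃ t : R, t ≠ 0 ∧ ∀ i, Q i = t * P i := by
  obtain ⟨hP, c, hc, hcP⟩ := h
  obtain ⟨s, ⟨b, hb⟩, hsb, hx⟩ := IsFractionRing.exists_reduced_fraction R (a / c)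
  have hb0 : algebraMap R K b ≠ 0 := IsFractionRing.to_map_ne_zero_of_mem_nonZeroDivisors hb
  have h1 : algebraMap R K s = a / c * algebraMap R K b := by
    rw [← hx, IsLocalization.mk'_spec]
  have h2 : ∀ i, b * Q i = s * P i := by
    intro i
    apply IsFractionRing.injective R K
    rw [map_mul, map_mul, h1, ← hQ, ← hcP]
    field_simp
  have hbu : IsUnit b := hP b fun i => by
    have h3 : b ∣ s * P i := ⟨Q i, (h2 i).symm⟩
    exact hsb.symm.dvd_of_dvd_mul_left h3
  obtain ⟨b', hb'⟩ := hbu.exists_left_inv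
  refine ⟨b' * s, ?_, fun i => ?_⟩
  · intro h0
    have h3 : algebraMap R K s ≠ 0 := by
      rw [h1]
      exact mul_ne_zero (div_ne_zero ha hc) hb0
    have h4 : s = 0 := by
      rcases mul_eq_zero.mp h0 with h5 | h5
      · rw [h5, zero_mul] at hb'
        exact absurd hb' zero_ne_one
      · exact h5
    rw [h4, map_zero] at h3
    exact h3 rfl
  · rw [mul_assoc, ← h2, ← mul_assoc, hb', one_mul]

/-- Common divisors of `e P_i ^ N`, `P` primitive. -/
theorem dvd_of_prim {I : Type} {P : I → R} (hP : Prim P) (N : ℕ) (t : R) (ht : t ≠ 0) (e : R)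
    (h : ∀ i, t ∣ e * P i ^ N) : t ∣ e := by
  induction t using UniqueFactorizationMonoid.induction_on_prime generalizing e with
  | h₁ => exact absurd rfl ht
  | h₂ x hx => exact hx.dvd
  | h₃ a p ha hp ih =>
    have h1 : p ∣ e := by
      by_contra hpe
      refine hp.not_isUnit (hP p fun i => ?_)
      have h2 := (dvd_of_mul_right_dvd (h i))
      exact hp.dvd_of_dvd_pow ((hp.dvd_or_dvd h2).resolve_left hpe)
    obtain ⟨e', rfl⟩ := h1
    refine mul_dvd_mul_left p (ih ha e' fun i => ?_)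
    have h2 := h i
    rw [mul_assoc] at h2
    exact (mul_dvd_mul_iff_left hp.ne_zero).mp h2

attribute [local instance] MvPolynomial.algebraMvPolynomial in
/-- Clearing denominators in forms. -/
theorem exists_int {I T : Type} [Finite T] (a : ℕ) (f : T → MvPolynomial I K) (hf : ∀ i, (f i).IsHomogeneous a) :
    ∃ e : R, e ≠ 0 ∧ ∃ g : T → MvPolynomial I R, (∀ i, (g i).IsHomogeneous a) ∧
      ∀ (i : T) (P : I → R), algebraMap R K (MvPolynomial.eval P (g i)) =
        algebraMap R K e * MvPolynomial.eval (fun j => algebraMap R K (P j)) (f i) := by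
  obtain ⟨⟨_, ⟨e, he, rfl⟩⟩, hb⟩ := IsLocalization.exist_integer_multiples_of_finite
    (R := MvPolynomial I R) ((nonZeroDivisors R).map (MvPolynomial.C (σ := I))) f
  choose g hg using hb
  have hg' : ∀ i, MvPolynomial.map (algebraMap R K) (g i) = MvPolynomial.C (algebraMap R K e) * f i := by
    intro i
    have h1 := hg i
    rw [Algebra.smul_def] at h1
    refine h1.trans ?_
    congr 1
    exact MvPolynomial.map_C _ _
  refine ⟨e, nonZeroDivisors.ne_zero he, g, fun i => ?_, fun i P => ?_⟩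
  · refine MvPolynomial.IsHomogeneous.of_map (IsFractionRing.injective R K) ?_
    rw [hg' i]
    have := (MvPolynomial.isHomogeneous_C I (algebraMap R K e)).mul (hf i)
    rwa [zero_add] at this
  · have h1 := congrArg (MvPolynomial.eval fun j => algebraMap R K (P j)) (hg' i)
    rw [map_mul, MvPolynomial.eval_C] at h1
    rw [← h1, MvPolynomial.eval_map]
    exact MvPolynomial.eval₂_comp_left (algebraMap R K) (RingHom.id R) P (g i)

end prim

/-! ## The heights -/

section heights

variable {R : Type v} {K : Type u} [CommRing R] [IsDomain R] [UniqueFactorizationMonoid R] [Field K] [Algebra R K]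
  [IsFractionRing R K] (d : DegNorm R)

theorem eval_smul {I : Type} {a : ℕ} {g : MvPolynomial I K} (hg : g.IsHomogeneous a) (c : K) (v : I → K) :
    MvPolynomial.eval (fun i => c * v i) g = c ^ a * MvPolynomial.eval v g := by
  rw [MvPolynomial.eval_eq, MvPolynomial.eval_eq, Finset.mul_sum]
  refine Finset.sum_congr rfl fun m hm => ?_
  have h1 : ∑ i ∈ m.support, m i = a := by
    by_contra h
    exact (MvPolynomial.mem_support_iff.mp hm) (hg.coeff_eq_zero h)
  simp only [mul_pow]
  rw [Finset.prod_mul_distrib, Finset.prod_pow_eq_pow_sum, h1]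
  ring

/-- The degree of a class. -/
noncomputable def Dn {I : Type} [Fintype I] (v : I → K) : ℕ := Finset.univ.sup fun i => d.deg (rep R v i)

/-- The size of a class. -/
noncomputable def Nn {I : Type} (v : I → K) : ℝ := ⨆ i, d.nm (rep R v i)

variable {I : Type} [Fintype I]

theorem deg_le_Dn (v : I → K) (i : I) : d.deg (rep R v i) ≤ Dn d v :=
  Finset.le_sup (f := fun i => d.deg (rep R v i)) (Finset.mem_univ i)

theorem nm_le_Nn (v : I → K) (i : I) : d.nm (rep R v i) ≤ Nn d v :=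
  le_ciSup (Set.finite_range fun i => d.nm (rep R v i)).bddAbove i

theorem Nn_le (v : I → K) {B : ℝ} (hB : 0 ≤ B) (h : ∀ i, d.nm (rep R v i) ≤ B) : Nn d v ≤ B := Real.iSup_le h hB

theorem rep_ne_zero {v : I → K} (hv : v ≠ 0) : ∃ i, rep R v i ≠ 0 := by
  obtain ⟨-, c, hc, h⟩ := isRep_rep (R := R) hv
  obtain ⟨i, hi⟩ := Function.ne_iff.mp hv
  refine ⟨i, fun h0 => ?_⟩
  have h1 := h i
  rw [h0, map_zero] at h1
  exact (mul_ne_zero hc hi) h1

theorem one_le_Nn {v : I → K} (hv : v ≠ 0) : 1 ≤ Nn d v := by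
  obtain ⟨i, hi⟩ := rep_ne_zero (R := R) hv
  exact (d.one_le_nm _ hi).trans (nm_le_Nn d v i)

theorem exists_Nn_eq {v : I → K} (hv : v ≠ 0) : ∃ i, rep R v i ≠ 0 ∧ d.nm (rep R v i) = Nn d v := by
  obtain ⟨i₀, -⟩ := rep_ne_zero (R := R) hv
  have : Nonempty I := ⟨i₀⟩
  obtain ⟨i, hi⟩ := exists_eq_ciSup_of_finite (f := fun i => d.nm (rep R v i))
  refine ⟨i, fun h0 => ?_, hi⟩
  have h1 := one_le_Nn d hv
  rw [Nn, ← hi, h0, d.nm_zero] at h1
  exact absurd h1 (by norm_num)

theorem mul_Dn_le (v : I → K) (hI : Nonempty I) (N B : ℕ) (h : ∀ i, N * d.deg (rep R v i) ≤ B) :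
    N * Dn d v ≤ B := by
  obtain ⟨i, -, hi⟩ := Finset.exists_mem_eq_sup (Finset.univ : Finset I) (Finset.univ_nonempty_iff.mpr hI)
    (fun i => d.deg (rep R v i))
  rw [Dn, hi]
  exact h i

variable {T : Type} [Fintype T]

theorem upper_core (a : ℕ) (f : T → MvPolynomial I K) (hf : ∀ i, (f i).IsHomogeneous a) :
    ∃ (c₁ : ℕ) (c₂ : ℝ), 1 ≤ c₂ ∧ ∀ v : I → K, v ≠ 0 → ev f v ≠ 0 → Dn d (ev f v) ≤ c₁ + a * Dn d v ∧
      Nn d (ev f v) ≤ d.C ^ (c₁ + a * Dn d v + 1) * (c₂ * Nn d v ^ a) := by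
  obtain ⟨e, he, g, hg, hge⟩ := exists_int (R := R) a f hf
  choose c₁ hc₁ using fun i => exists_deg_eval_le d a (g i) (hg i)
  choose c₂ hc₂ hc₂' using fun i => exists_nm_eval_le d a (g i) (hg i)
  refine ⟨Finset.univ.sup c₁, 1 + ∑ i, c₂ i, le_add_of_nonneg_right (Finset.sum_nonneg fun i _ => hc₂ i), ?_⟩
  intro v hv hw
  obtain ⟨hP, c, hc, hcP⟩ := isRep_rep (R := R) hv
  have hN := one_le_Nn d hv
  have he0 : algebraMap R K e ≠ 0 := by rwa [Ne, IsFractionRing.to_map_eq_zero_iff]
  obtain ⟨t, ht, hQ⟩ := exists_mul (isRep_rep (R := R) hw) (Q := fun i => MvPolynomial.eval (rep R v) (g i))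
    (a := algebraMap R K e * c ^ a) (mul_ne_zero he0 (pow_ne_zero a hc)) (fun i => by
      rw [hge, ← funext hcP, eval_smul (hf i), ev, mul_assoc])
  have key : ∀ i, rep R (ev f v) i ≠ 0 → d.deg (MvPolynomial.eval (rep R v) (g i)) ≤
      Finset.univ.sup c₁ + a * Dn d v ∧ d.deg (rep R (ev f v) i) ≤ d.deg (MvPolynomial.eval (rep R v) (g i)) ∧
      d.nm (rep R (ev f v) i) ≤ d.C ^ (d.deg (MvPolynomial.eval (rep R v) (g i)) + 1) *
        d.nm (MvPolynomial.eval (rep R v) (g i)) := by
    intro i hi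
    refine ⟨(hc₁ i _ (Dn d v) (deg_le_Dn d v)).trans
      (Nat.add_le_add_right (Finset.le_sup (f := c₁) (Finset.mem_univ i)) _), ?_, ?_⟩
    · have h1 := hQ i
      beta_reduce at h1
      rw [h1, d.deg_mul _ _ ht hi]
      omega
    · have h1 := hQ i
      beta_reduce at h1
      rw [h1]
      refine le_trans ?_ (d.nm_mul' _ _ ht hi)
      exact le_mul_of_one_le_left (nm_nonneg d _) (d.one_le_nm t ht)
  constructor
  · refine Finset.sup_le fun i _ => ?_
    by_cases hi : rep R (ev f v) i = 0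
    · rw [hi, deg_zero]
      omega
    · obtain ⟨k₁, k₂, -⟩ := key i hi
      exact k₂.trans k₁
  · have hpos : 0 ≤ d.C ^ (Finset.univ.sup c₁ + a * Dn d v + 1) * ((1 + ∑ i, c₂ i) * Nn d v ^ a) :=
      mul_nonneg (pow_nonneg (C_pos d).le _) (mul_nonneg
        (add_nonneg zero_le_one (Finset.sum_nonneg fun i _ => hc₂ i)) (pow_nonneg (zero_le_one.trans hN) a))
    refine Nn_le d _ hpos fun i => ?_
    by_cases hi : rep R (ev f v) i = 0
    · rw [hi, d.nm_zero]
      exact hpos
    · obtain ⟨k₁, -, k₃⟩ := key i hi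
      refine k₃.trans (mul_le_mul (pow_le_pow_right₀ d.one_le (Nat.succ_le_succ k₁)) ?_ (nm_nonneg d _)
        (pow_nonneg (C_pos d).le _))
      refine (hc₂' i _ (Nn d v) (zero_le_one.trans hN) (nm_le_Nn d v)).trans
        (mul_le_mul_of_nonneg_right ?_ (pow_nonneg (zero_le_one.trans hN) a))
      have := Finset.single_le_sum (f := c₂) (fun i _ => hc₂ i) (Finset.mem_univ i)
      linarith

theorem deg_mul_pow (x y : R) (hx : x ≠ 0) (hy : y ≠ 0) (k : ℕ) : d.deg (x * y ^ k) = d.deg x + k * d.deg y := by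
  induction k with
  | zero => rw [pow_zero, mul_one]; omega
  | succ k ih =>
    rw [pow_succ, ← mul_assoc, Nat.succ_mul, d.deg_mul _ _ (mul_ne_zero hx (pow_ne_zero k hy)) hy, ih]
    omega

theorem lower_core (a N : ℕ) (F : T → MvPolynomial I K) (b : I → T → MvPolynomial I K) (haN : a ≤ N)
    (hF : ∀ i, (F i).IsHomogeneous a) (hb : ∀ i j, (b i j).IsHomogeneous (N - a)) :
    ∃ (k : ℕ) (c₂ : ℝ), 1 ≤ c₂ ∧ ∀ v : I → K, v ≠ 0 →
      (∀ i, v i ^ N = ∑ j, MvPolynomial.eval v (b i j) * MvPolynomial.eval v (F j)) →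
      ev F v ≠ 0 ∧ a * Dn d v ≤ Dn d (ev F v) + k ∧
      Nn d v ^ a ≤ d.C ^ (k * Dn d v + k) * c₂ * Nn d (ev F v) := by
  obtain ⟨e₁, he₁, g, hg, hge⟩ := exists_int (R := R) a F hF
  obtain ⟨e₂, he₂, h, hh, hhe⟩ := exists_int (R := R) (T := I × T) (N - a) (fun p => b p.1 p.2)
    (fun p => hb p.1 p.2)
  choose c₁ hc₁ using fun i => exists_deg_eval_le d (N - a) (h i) (hh i)
  choose c₂ hc₂ hc₂' using fun i => exists_nm_eval_le d (N - a) (h i) (hh i)
  let e := e₁ * e₂
  have he : e ≠ 0 := mul_ne_zero he₁ he₂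
  let s₁ : ℕ := Finset.univ.sup c₁
  let s₂ : ℝ := ∑ p, c₂ p
  have hs₂ : 0 ≤ s₂ := Finset.sum_nonneg fun i _ => hc₂ i
  refine ⟨s₁ + N * N + N + N + 2 * d.deg e + 2, 1 + s₂ * d.nm e,
    le_add_of_nonneg_right (mul_nonneg hs₂ (nm_nonneg d e)), ?_⟩
  intro v hv hvN
  have hw : ev F v ≠ 0 := by
    intro h0
    obtain ⟨i, hi⟩ := Function.ne_iff.mp hv
    have h1 := hvN i
    rw [Finset.sum_eq_zero] at h1
    · exact pow_ne_zero N hi h1
    · intro j _
      have h2 : MvPolynomial.eval v (F j) = 0 := congrFun h0 j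
      rw [h2, mul_zero]
  refine ⟨hw, ?_⟩
  obtain ⟨hP, c, hc, hcP⟩ := isRep_rep (R := R) hv
  have hN := one_le_Nn d hv
  have hN0 : (0 : ℝ) ≤ Nn d v := zero_le_one.trans hN
  have hNw := one_le_Nn d hw
  obtain ⟨i₀, -⟩ := rep_ne_zero (R := R) hv
  have hI : Nonempty I := ⟨i₀⟩
  have he0 : algebraMap R K e₁ ≠ 0 := by rwa [Ne, IsFractionRing.to_map_eq_zero_iff]
  obtain ⟨t, ht, hQ⟩ := exists_mul (isRep_rep (R := R) hw) (Q := fun i => MvPolynomial.eval (rep R v) (g i))
    (a := algebraMap R K e₁ * c ^ a) (mul_ne_zero he0 (pow_ne_zero a hc)) (fun i => by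
      rw [hge, ← funext hcP, eval_smul (hF i), ev, mul_assoc])
  have hsum : ∀ i, e * rep R v i ^ N = ∑ j, MvPolynomial.eval (rep R v) (h (i, j)) *
      MvPolynomial.eval (rep R v) (g j) := by
    intro i
    apply IsFractionRing.injective R K
    rw [map_mul, map_pow, ← hcP, mul_pow, hvN, Finset.mul_sum, Finset.mul_sum, map_sum]
    refine Finset.sum_congr rfl fun j _ => ?_
    rw [map_mul, map_mul, hge, hhe, ← funext hcP, eval_smul (hF j), eval_smul (hb i j)]
    have hcN : c ^ N = c ^ (N - a) * c ^ a := by rw [← pow_add, Nat.sub_add_cancel haN]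
    rw [hcN]
    ring
  have hte : t ∣ e := dvd_of_prim hP N t ht e fun i => by
    rw [hsum]
    refine Finset.dvd_sum fun j _ => Dvd.dvd.mul_left ?_ _
    exact ⟨_, hQ j⟩
  obtain ⟨t', ht'⟩ := hte
  have ht'0 : t' ≠ 0 := by
    rintro rfl
    exact he (by rw [ht', mul_zero])
  have hdt : d.deg t ≤ d.deg e := by
    rw [ht', d.deg_mul _ _ ht ht'0]
    omega
  have hnt : d.nm t ≤ d.C ^ (d.deg e + 1) * d.nm e := by
    have h1 := d.nm_mul' _ _ ht ht'0
    rw [← ht'] at h1
    exact (le_mul_of_one_le_right (nm_nonneg d t) (d.one_le_nm t' ht'0)).trans h1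
  have hdB : ∀ i j, d.deg (MvPolynomial.eval (rep R v) (h (i, j))) ≤ s₁ + (N - a) * Dn d v := fun i j =>
    (hc₁ (i, j) _ _ (deg_le_Dn d v)).trans
      (Nat.add_le_add_right (Finset.le_sup (f := c₁) (Finset.mem_univ (i, j))) _)
  have hsplit : N * Dn d v = (N - a) * Dn d v + a * Dn d v := by
    rw [← add_mul, Nat.sub_add_cancel haN]
  constructor
  · have h1 : N * Dn d v ≤ s₁ + (N - a) * Dn d v + d.deg e + Dn d (ev F v) := by
      refine mul_Dn_le d v hI N _ fun i => ?_
      by_cases hi : rep R v i = 0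
      · rw [hi, deg_zero]
        omega
      · have h2 := deg_mul_pow d e _ he hi N
        have h3 : d.deg (e * rep R v i ^ N) ≤ s₁ + (N - a) * Dn d v + d.deg e + Dn d (ev F v) := by
          rw [hsum]
          refine deg_sum_le d _ _ _ fun j _ => (deg_mul_le d _ _).trans ?_
          have h4 := hdB i j
          have h5 : d.deg (MvPolynomial.eval (rep R v) (g j)) ≤ d.deg e + Dn d (ev F v) := by
            have h6 := hQ j
            beta_reduce at h6
            rw [h6]
            have h7 := deg_le_Dn d (ev F v) j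
            exact (deg_mul_le d _ _).trans (by omega)
          omega
        omega
    have h2 : d.deg e ≤ 2 * d.deg e := by omega
    generalize d.deg e = x at h1 h2 ⊢
    omega
  · obtain ⟨i, hi, hiN⟩ := exists_Nn_eq d hv
    have hdi := deg_le_Dn d v i
    -- the chain of estimates
    have h1 : Nn d v ^ N ≤ d.C ^ (N * (N * Dn d v + 1)) * d.nm (rep R v i ^ N) := by
      rw [← hiN]
      refine (nm_pow_le d _ hi N).trans (mul_le_mul_of_nonneg_right (pow_le_pow_right₀ d.one_le ?_) (nm_nonneg d _))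
      gcongr
    have h2 : d.nm (rep R v i ^ N) ≤ d.C ^ (d.deg e + N * Dn d v + 1) * d.nm (e * rep R v i ^ N) := by
      have h3 := d.nm_mul' e (rep R v i ^ N) he (pow_ne_zero N hi)
      refine (le_mul_of_one_le_left (nm_nonneg d _) (d.one_le_nm e he)).trans (h3.trans
        (mul_le_mul_of_nonneg_right (pow_le_pow_right₀ d.one_le ?_) (nm_nonneg d _)))
      rw [deg_mul_pow d e _ he hi]
      gcongr
    have h3 : d.nm (e * rep R v i ^ N) ≤
        s₂ * Nn d v ^ (N - a) * (d.C ^ (d.deg e + 1) * d.nm e * Nn d (ev F v)) := by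
      rw [hsum]
      refine (nm_sum_le d _ _).trans ?_
      have h4 : ∀ j ∈ Finset.univ, d.nm (MvPolynomial.eval (rep R v) (h (i, j)) *
          MvPolynomial.eval (rep R v) (g j)) ≤
          c₂ (i, j) * Nn d v ^ (N - a) * (d.C ^ (d.deg e + 1) * d.nm e * Nn d (ev F v)) := by
        intro j _
        refine (d.nm_mul _ _).trans (mul_le_mul (hc₂' (i, j) _ _ hN0 (nm_le_Nn d v)) ?_ (nm_nonneg d _)
          (mul_nonneg (hc₂ _) (pow_nonneg hN0 _)))
        have h6 := hQ j
        beta_reduce at h6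
        rw [h6]
        exact (d.nm_mul _ _).trans (mul_le_mul hnt (nm_le_Nn d (ev F v) j) (nm_nonneg d _)
          (mul_nonneg (pow_nonneg (C_pos d).le _) (nm_nonneg d e)))
      refine (Finset.sum_le_sum h4).trans ?_
      rw [← Finset.sum_mul, ← Finset.sum_mul]
      have h5 : ∑ j, c₂ (i, j) ≤ s₂ := by
        have : s₂ = ∑ i, ∑ j, c₂ (i, j) := Fintype.sum_prod_type _
        rw [this]
        exact Finset.single_le_sum (f := fun i => ∑ j, c₂ (i, j))
          (fun i _ => Finset.sum_nonneg fun j _ => hc₂ _) (Finset.mem_univ i)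
      have h6 : 0 ≤ d.C ^ (d.deg e + 1) * d.nm e * Nn d (ev F v) :=
        mul_nonneg (mul_nonneg (pow_nonneg (C_pos d).le _) (nm_nonneg d e)) (zero_le_one.trans hNw)
      exact mul_le_mul_of_nonneg_right (mul_le_mul_of_nonneg_right h5 (pow_nonneg hN0 _)) h6
    have h4 : Nn d v ^ N ≤ Nn d v ^ (N - a) * (d.C ^ (N * (N * Dn d v + 1) + (d.deg e + N * Dn d v + 1) +
        (d.deg e + 1)) * (s₂ * d.nm e) * Nn d (ev F v)) := by
      calc Nn d v ^ N ≤ d.C ^ (N * (N * Dn d v + 1)) * (d.C ^ (d.deg e + N * Dn d v + 1) *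
            (s₂ * Nn d v ^ (N - a) * (d.C ^ (d.deg e + 1) * d.nm e * Nn d (ev F v)))) :=
            h1.trans (mul_le_mul_of_nonneg_left (h2.trans (mul_le_mul_of_nonneg_left h3
              (pow_nonneg (C_pos d).le _))) (pow_nonneg (C_pos d).le _))
        _ = _ := by rw [pow_add, pow_add]; ring
    have h5 : Nn d v ^ N = Nn d v ^ (N - a) * Nn d v ^ a := by rw [← pow_add, Nat.sub_add_cancel haN]
    rw [h5] at h4
    have h6 := le_of_mul_le_mul_left h4 (pow_pos (zero_lt_one.trans_le hN) _)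
    refine h6.trans (mul_le_mul_of_nonneg_right (mul_le_mul (pow_le_pow_right₀ d.one_le ?_) ?_
      (mul_nonneg hs₂ (nm_nonneg d e)) (pow_nonneg (C_pos d).le _)) (zero_le_one.trans hNw))
    · nlinarith [Nat.zero_le (s₁ * Dn d v), Nat.zero_le (N * Dn d v), Nat.zero_le (d.deg e * Dn d v),
        Nat.zero_le (Dn d v)]
    · linarith

end heights

/-! ## The system of heights -/

section final

variable {R : Type v} {K : Type u} [CommRing R] [IsDomain R] [UniqueFactorizationMonoid R] [Field K] [Algebra R K]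
  [IsFractionRing R K] (d : DegNorm R)

theorem log_C_nonneg : 0 ≤ Real.log d.C := Real.log_nonneg d.one_le

/-- The system of heights. -/
noncomputable def sys : HeightSys K where
  D I _ v := (Dn d v : ℝ)
  L I _ v := Real.log (Nn d v)
  D_nonneg I _ v _ := Nat.cast_nonneg _
  L_nonneg I _ v hv := Real.log_nonneg (one_le_Nn d hv)
  D_smul I _ c v hc _ := by rw [Dn, Dn, rep_smul hc]
  L_smul I _ c v hc _ := by rw [Nn, Nn, rep_smul hc]
  northcott I _ B := by
    refine ⟨(fun P : I → R => fun i => algebraMap R K (P i)) ''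
      {P | ∀ i, P i ∈ {x : R | (d.deg x : ℝ) ≤ max B (Real.exp B) ∧ d.nm x ≤ max B (Real.exp B)}},
      Set.Finite.image _ (Set.Finite.pi' fun _ => d.fin _), fun v hv hD hL => ?_⟩
    obtain ⟨-, c, hc, hcP⟩ := isRep_rep (R := R) hv
    refine ⟨c, hc, rep R v, fun i => ⟨?_, ?_⟩, (funext hcP).symm⟩
    · exact (Nat.cast_le.mpr (deg_le_Dn d v i)).trans (hD.trans (le_max_left _ _))
    · refine (nm_le_Nn d v i).trans (le_trans ?_ (le_max_right _ _))
      rw [← Real.exp_log (zero_lt_one.trans_le (one_le_Nn d hv))]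
      exact Real.exp_le_exp.mpr hL
  upper I T _ _ a f hf := by
    obtain ⟨c₁, c₂, hc₂, h⟩ := upper_core d a f hf
    have hC := log_C_nonneg d
    have hc₂' := Real.log_nonneg hc₂
    refine ⟨c₁ + a * Real.log d.C + (c₁ + 1) * Real.log d.C + Real.log c₂, fun v hv hw => ?_⟩
    obtain ⟨h1, h2⟩ := h v hv hw
    have hN := one_le_Nn d hv
    have hNw := one_le_Nn d hw
    have hD : (0 : ℝ) ≤ Dn d v := Nat.cast_nonneg _
    have ha : (0 : ℝ) ≤ a := Nat.cast_nonneg _
    have hc₁ : (0 : ℝ) ≤ c₁ := Nat.cast_nonneg _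
    constructor
    · have h3 : (Dn d (ev f v) : ℝ) ≤ c₁ + a * Dn d v := by exact_mod_cast h1
      have := mul_nonneg ha hC
      have := mul_nonneg (add_nonneg hc₁ zero_le_one) hC
      linarith
    · have h3 := Real.log_le_log (zero_lt_one.trans_le hNw) h2
      rw [Real.log_mul (pow_ne_zero _ (C_pos d).ne') (mul_ne_zero (zero_lt_one.trans_le hc₂).ne'
        (pow_ne_zero _ (zero_lt_one.trans_le hN).ne')), Real.log_pow,
        Real.log_mul (zero_lt_one.trans_le hc₂).ne' (pow_ne_zero _ (zero_lt_one.trans_le hN).ne'), Real.log_pow] at h3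
      push_cast at h3
      have k₁ := mul_nonneg hc₁ hD
      have k₂ := mul_nonneg (mul_nonneg (add_nonneg hc₁ zero_le_one) hC) hD
      have k₃ := mul_nonneg hc₂' hD
      nlinarith
  lower I T _ _ a N F b haN hF hb := by
    obtain ⟨k, c₂, hc₂, h⟩ := lower_core d a N F b haN hF hb
    have hC := log_C_nonneg d
    have hc₂' := Real.log_nonneg hc₂
    refine ⟨k + k * Real.log d.C + Real.log c₂, fun v hv hvN => ?_⟩
    obtain ⟨hw, h1, h2⟩ := h v hv hvN
    have hN := one_le_Nn d hv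
    have hNw := one_le_Nn d hw
    have hD : (0 : ℝ) ≤ Dn d v := Nat.cast_nonneg _
    have hk : (0 : ℝ) ≤ k := Nat.cast_nonneg _
    have hkC := mul_nonneg hk hC
    constructor
    · have h3 : (a : ℝ) * Dn d v ≤ Dn d (ev F v) + k := by exact_mod_cast h1
      linarith
    · have h3 := Real.log_le_log (pow_pos (zero_lt_one.trans_le hN) _) h2
      rw [Real.log_pow, Real.log_mul (mul_ne_zero (pow_ne_zero _ (C_pos d).ne') (zero_lt_one.trans_le hc₂).ne')
        (zero_lt_one.trans_le hNw).ne', Real.log_mul (pow_ne_zero _ (C_pos d).ne') (zero_lt_one.trans_le hc₂).ne',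
        Real.log_pow] at h3
      push_cast at h3
      have k₁ := mul_nonneg hk hD
      have k₃ := mul_nonneg hc₂' hD
      nlinarith

end final

/-- RQ-A2. -/
theorem heightSys_of_degNorm (R : Type v) (K : Type u) [CommRing R] [IsDomain R]
    [UniqueFactorizationMonoid R] [Field K] [Algebra R K] [IsFractionRing R K] (d : DegNorm R) :
    Nonempty (HeightSys K) := ⟨sys d⟩

end K722.HtSys
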